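import Groth.Agent.SmoothLib.EtalePolynomial
import Mathlib

/-!
# Étale coordinates adapted to a smooth closed subscheme: algebra
-/

set_option autoImplicit false
set_option linter.style.haveILetI false
set_option maxHeartbeats 1000000

universe u

open TensorProduct KaehlerDifferential

namespace Groth.Agent.FlatMorSmoothPair

variable {R A C : Type u} [CommRing R] [CommRing A] [CommRing C] [Algebra R A] [Algebra R C] [Algebra A C]
  [IsScalarTower R A C] (q : Ideal A) [q.IsPrime]

/-- Elements of the kernel spanning the differentials at `q`, independent there, generate near `q`. -/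
theorem exists_equations [Algebra.FormallySmooth R A] [Algebra.FormallySmooth R C] [Module.Finite A Ω[A⁄R]]
    (hs : Function.Surjective (algebraMap A C)) (hfg : (RingHom.ker (algebraMap A C)).FG)
    (hq : RingHom.ker (algebraMap A C) ≤ q) :
    ∃ (n : ℕ) (g : Fin n → A) (h : A), h ∉ q ∧ (∀ j, g j ∈ RingHom.ker (algebraMap A C)) ∧
      (∀ x ∈ RingHom.ker (algebraMap A C), h * x ∈ Ideal.span (Set.range g)) ∧
      LinearIndependent q.ResidueField (fun j => (1 : q.ResidueField) ⊗ₜ[A] D R A (g j)) := by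
  classical
  let K := q.ResidueField
  let I := RingHom.ker (algebraMap A C)
  have hIK : ∀ x ∈ I, algebraMap A K x = 0 := fun x hx => Ideal.algebraMap_residueField_eq_zero.2 (hq hx)
  obtain ⟨σ, hσ⟩ := hs.hasRightInverse
  let χ : C →+* K := RingHom.liftOfRightInverse (algebraMap A C) σ hσ ⟨algebraMap A K, hIK⟩
  have hχ : ∀ a, χ (algebraMap A C a) = algebraMap A K a :=
    RingHom.liftOfRightInverse_comp_apply (algebraMap A C) σ hσ ⟨algebraMap A K, hIK⟩
  letI : Algebra C K := χ.toAlgebra
  haveI : IsScalarTower A C K := IsScalarTower.of_algebraMap_eq fun a => (hχ a).symm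
  obtain ⟨l, hl⟩ := (Algebra.FormallySmooth.iff_split_injection (R := R) (P := A) (A := C) hs).1 inferInstance
  -- choose the equations
  let v : I → K ⊗[A] Ω[A⁄R] := fun x => 1 ⊗ₜ D R A x.1
  obtain ⟨b, hbt, hsp, hb⟩ := exists_linearIndependent K (Set.range v)
  haveI : Module.Finite K (K ⊗[A] Ω[A⁄R]) := inferInstance
  haveI := hb.setFinite.fintype
  let ε : Fin (Fintype.card b) ≃ b := (Fintype.equivFin b).symm
  choose g hg using fun j => hbt (ε j).2
  have hli : LinearIndependent K (fun j => v (g j)) := by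
    rw [show (fun j => v (g j)) = (fun z : b => (z : K ⊗[A] Ω[A⁄R])) ∘ ε from funext hg]
    exact hb.comp ε ε.injective
  have hgen : ∀ x : I, v x ∈ Submodule.span K (Set.range fun j => v (g j)) := fun x => by
    rw [show (Set.range fun j => v (g j)) = b from by
      rw [show (fun j => v (g j)) = (fun z : b => (z : K ⊗[A] Ω[A⁄R])) ∘ ε from funext hg, Set.range_comp,
        ε.surjective.range_eq, Set.image_univ, Subtype.range_coe], hsp]
    exact Submodule.subset_span ⟨x, rfl⟩
  -- the quotient of `I` by the equations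
  let J : Submodule A I := Submodule.span A (Set.range g)
  haveI : Module.Finite A I := Module.Finite.iff_fg.2 hfg
  have hsub : Subsingleton (K ⊗[A] (I ⧸ J)) := by
    let ν : I →ₗ[A] K ⊗[A] (I ⧸ J) := (TensorProduct.mk A K (I ⧸ J) 1).comp J.mkQ
    have hν : I • (⊤ : Submodule A I) ≤ LinearMap.ker ν := Submodule.smul_le.2 fun r hr x _ => by
      rw [LinearMap.mem_ker, map_smul]
      show r • ((1 : K) ⊗ₜ[A] J.mkQ x) = 0
      rw [TensorProduct.smul_tmul', Algebra.smul_def, hIK r hr, zero_mul, TensorProduct.zero_tmul]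
    let νN : I.Cotangent →ₗ[A] K ⊗[A] (I ⧸ J) := Submodule.liftQ _ ν hν
    let Φ : K ⊗[A] (C ⊗[A] Ω[A⁄R]) →ₗ[K] K ⊗[A] (I ⧸ J) := (νN.comp l).liftBaseChange K
    let e : K ⊗[C] (C ⊗[A] Ω[A⁄R]) ≃ₗ[K] K ⊗[A] Ω[A⁄R] := AlgebraTensorModule.cancelBaseChange A C K K Ω[A⁄R]
    let incl : K ⊗[A] Ω[A⁄R] →ₗ[K] K ⊗[A] (C ⊗[A] Ω[A⁄R]) :=
      (TensorProduct.mk A C Ω[A⁄R] 1).baseChange K
    let Ψ := Φ.comp incl
    have hΨ : ∀ x : I, Ψ (v x) = ν x := fun x => by
      show Φ ((1 : K) ⊗ₜ[A] ((1 : C) ⊗ₜ[A] D R A x.1)) = ν x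
      rw [LinearMap.liftBaseChange_tmul, one_smul, LinearMap.comp_apply, ← kerCotangentToTensor_toCotangent,
        ← LinearMap.comp_apply l, hl]
      rfl
    have hν0 : ∀ x : I, ν x = 0 := fun x => by
      rw [← hΨ x]
      have := hgen x
      refine Submodule.span_induction (p := fun z _ => Ψ z = 0) ?_ (map_zero _)
        (fun _ _ _ _ h1 h2 => by rw [map_add, h1, h2, add_zero]) (fun c _ _ h1 => by rw [map_smul, h1, smul_zero]) this
      rintro _ ⟨j, rfl⟩
      show Ψ (v (g j)) = 0
      rw [hΨ]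
      show (1 : K) ⊗ₜ[A] J.mkQ (g j) = 0
      rw [Submodule.mkQ_apply, (Submodule.Quotient.mk_eq_zero J).2 (Submodule.subset_span ⟨j, rfl⟩), tmul_zero]
    refine subsingleton_of_forall_eq 0 fun z => ?_
    induction z using TensorProduct.induction_on with
    | zero => rfl
    | add a c ha hc => rw [ha, hc, add_zero]
    | tmul c m =>
      obtain ⟨x, rfl⟩ := J.mkQ_surjective m
      rw [show c = c • (1 : K) by rw [smul_eq_mul, mul_one], ← TensorProduct.smul_tmul']
      exact (congrArg (c • ·) (hν0 x)).trans (smul_zero c)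
  have hns : (⟨q, inferInstance⟩ : PrimeSpectrum A) ∉ Module.support A (I ⧸ J) := fun hmem =>
    not_subsingleton_iff_nontrivial.2 ((Module.mem_support_iff_nontrivial_residueField_tensorProduct _).1 hmem) hsub
  rw [Module.support_eq_zeroLocus, PrimeSpectrum.mem_zeroLocus, Set.not_subset] at hns
  obtain ⟨h, hann, hhq⟩ := hns
  refine ⟨_, fun j => (g j).1, h, hhq, fun j => (g j).2, fun x hx => ?_, hli⟩
  have h0 : J.mkQ (h • ⟨x, hx⟩) = 0 := by
    rw [map_smul]
    exact (Module.mem_annihilator.1 hann _)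
  rw [Submodule.mkQ_apply, Submodule.Quotient.mk_eq_zero] at h0
  have h1 : h * x ∈ J.map I.subtype := ⟨_, h0, rfl⟩
  rw [Submodule.map_span, ← Set.range_comp] at h1
  exact h1

/-- Étale coordinates adapted to a smooth quotient. -/
theorem exists_coordinates [Algebra.Smooth R A] [Algebra.Smooth R C] (hs : Function.Surjective (algebraMap A C))
    (hq : RingHom.ker (algebraMap A C) ≤ q) :
    ∃ (m n : ℕ) (w : ULift.{u} (Fin m ⊕ Fin n) → A) (h : A), h ∉ q ∧
      (∀ j, w ⟨Sum.inr j⟩ ∈ RingHom.ker (algebraMap A C)) ∧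
      (∀ x ∈ RingHom.ker (algebraMap A C), h * x ∈ Ideal.span (Set.range fun j => w ⟨Sum.inr j⟩)) ∧
      (letI := (MvPolynomial.aeval w : MvPolynomial (ULift.{u} (Fin m ⊕ Fin n)) R →ₐ[R] A).toRingHom.toAlgebra;
        Algebra.Etale (MvPolynomial (ULift.{u} (Fin m ⊕ Fin n)) R) (Localization.Away h)) := by
  have hfg : (RingHom.ker (algebraMap A C)).FG :=
    Algebra.FinitePresentation.ker_fG_of_surjective (IsScalarTower.toAlgHom R A C) hs
  obtain ⟨n, g, h₁, hh₁, hg, hspan, hli⟩ := exists_equations (R := R) q hs hfg hq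
  haveI : Algebra.IsSmoothAt R q := inferInstance
  obtain ⟨m, g', het⟩ := SmoothLib.exists_etale_coordinates (A := R) q n g hli
  let w : ULift.{u} (Fin m ⊕ Fin n) → A := fun i => Sum.elim g' g i.down
  let P := MvPolynomial (ULift.{u} (Fin m ⊕ Fin n)) R
  let P₀ := MvPolynomial (Fin n ⊕ Fin m) R
  let ρ : P₀ ≃ₐ[R] P := MvPolynomial.renameEquiv R ((Equiv.sumComm _ _).trans Equiv.ulift.symm)
  letI algP : Algebra P A := (MvPolynomial.aeval w : P →ₐ[R] A).toRingHom.toAlgebra
  letI algP₀ : Algebra P₀ A := (MvPolynomial.aeval (Sum.elim g g') : P₀ →ₐ[R] A).toRingHom.toAlgebra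
  haveI : IsScalarTower R P A := IsScalarTower.of_algebraMap_eq fun r => ((MvPolynomial.aeval w).commutes r).symm
  letI algρ : Algebra P₀ P := ρ.toAlgHom.toRingHom.toAlgebra
  haveI : IsScalarTower P₀ P A := IsScalarTower.of_algebraMap_eq' (by
    show (MvPolynomial.aeval (Sum.elim g g') : P₀ →ₐ[R] A).toRingHom =
      ((MvPolynomial.aeval w : P →ₐ[R] A).comp ρ.toAlgHom).toRingHom
    congr 1
    refine MvPolynomial.algHom_ext fun i => ?_
    show MvPolynomial.aeval (Sum.elim g g') (MvPolynomial.X i) =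
      MvPolynomial.aeval w (MvPolynomial.rename ((Equiv.sumComm _ _).trans Equiv.ulift.symm) (MvPolynomial.X i))
    rw [MvPolynomial.rename_X, MvPolynomial.aeval_X, MvPolynomial.aeval_X]
    rcases i with i | i <;> rfl)
  haveI : Algebra.FormallyEtale P₀ P :=
    Algebra.FormallyEtale.of_equiv (AlgEquiv.ofBijective (Algebra.ofId P₀ P) ρ.bijective)
  haveI hloc : Algebra.IsEtaleAt P q := by
    haveI : Algebra.FormallyEtale P₀ (Localization.AtPrime q) := het
    haveI : IsScalarTower P₀ P (Localization.AtPrime q) := IsScalarTower.of_algebraMap_eq fun z => by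
      rw [IsScalarTower.algebraMap_apply P₀ A (Localization.AtPrime q), IsScalarTower.algebraMap_apply P A,
        ← IsScalarTower.algebraMap_apply P₀ P A]
    exact Algebra.FormallyEtale.of_restrictScalars (R := P₀)
  haveI : Algebra.FinitePresentation P A := Algebra.FinitePresentation.of_restrict_scalars_finitePresentation R P A
  obtain ⟨_, ⟨h₂, rfl⟩, hh₂, hsub⟩ := PrimeSpectrum.isTopologicalBasis_basic_opens.exists_subset_of_mem_open
    (show (⟨q, inferInstance⟩ : PrimeSpectrum A) ∈ Algebra.etaleLocus P A from hloc) Algebra.isOpen_etaleLocus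
  refine ⟨m, n, w, h₁ * h₂, fun hm => (Ideal.IsPrime.mem_or_mem inferInstance hm).elim hh₁ hh₂, hg,
    fun x hx => ?_, ?_⟩
  · rw [show h₁ * h₂ * x = h₂ * (h₁ * x) by ring]
    exact Ideal.mul_mem_left _ _ (hspan x hx)
  · haveI : Algebra.FormallyEtale P (Localization.Away (h₁ * h₂)) :=
      Algebra.basicOpen_subset_etaleLocus_iff.1 (Set.Subset.trans (PrimeSpectrum.basicOpen_mul_le_right h₁ h₂) hsub)
    haveI : Algebra.FinitePresentation A (Localization.Away (h₁ * h₂)) :=
      IsLocalization.Away.finitePresentation (h₁ * h₂)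
    haveI : Algebra.FinitePresentation P (Localization.Away (h₁ * h₂)) := Algebra.FinitePresentation.trans P A _
    exact ⟨inferInstance, inferInstance⟩

end Groth.Agent.FlatMorSmoothPair
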