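import Groth.Agent.FlatMorSmoothPair.Alg
import Mathlib

/-!
# Étale coordinates adapted to a smooth closed subscheme: schemes
-/

set_option autoImplicit false
set_option linter.style.haveILetI false
set_option maxHeartbeats 1000000

universe u

open AlgebraicGeometry CategoryTheory Limits

namespace Groth.Agent.FlatMorSmoothPair

/-- A map to an affine scheme killing an ideal factors through the closed subscheme. -/
theorem exists_lift {B : CommRingCat.{u}} (J : Ideal B) {T : Scheme.{u}} (g : T ⟶ Spec B)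
    (hg : ∀ x ∈ J, g.appTop ((Scheme.ΓSpecIso B).inv x) = 0) :
    ∃ l : T ⟶ Spec (CommRingCat.of (B ⧸ J)), l ≫ Spec.map (CommRingCat.ofHom (Ideal.Quotient.mk J)) = g := by
  refine ⟨T.toSpecΓ ≫ Spec.map (CommRingCat.ofHom (Ideal.Quotient.lift J
    ((Scheme.ΓSpecIso B).inv ≫ g.appTop).hom hg)), ?_⟩
  rw [Category.assoc, ← Spec.map_comp]
  apply ext_of_isAffine
  rw [Scheme.Hom.comp_appTop, Scheme.toSpecΓ_appTop, ← cancel_epi (Scheme.ΓSpecIso B).inv,
    ← Category.assoc, ← Scheme.ΓSpecIso_inv_naturality, Category.assoc, Iso.inv_hom_id, Category.comp_id]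
  ext x
  rfl

theorem appTop_specMap {B C : CommRingCat.{u}} (mk : B ⟶ C) (x : B) :
    (Spec.map mk).appTop ((Scheme.ΓSpecIso B).inv x) = (Scheme.ΓSpecIso C).inv (mk x) := by
  rw [← CommRingCat.comp_apply, ← Scheme.ΓSpecIso_inv_naturality, CommRingCat.comp_apply]

/-- The vanishing locus of some of the coordinates of a map to affine space, abstractly. -/
theorem isPullback_coords_aux {S P U : Scheme.{u}} {a b : Type} (mk : P ⟶ U) [Mono mk] (f : U ⟶ S)
    (v : ULift.{u} (a ⊕ b) → Γ(U, ⊤)) (hv : ∀ l : b, mk.appTop (v ⟨.inr l⟩) = 0)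
    (hlift : ∀ (T : Scheme.{u}) (g : T ⟶ U), (∀ l : b, g.appTop (v ⟨.inr l⟩) = 0) → ∃ t : T ⟶ P, t ≫ mk = g) :
    IsPullback (AffineSpace.homOfVector (mk ≫ f) (fun k : ULift.{u} a => mk.appTop (v ⟨.inl k.down⟩))) mk
      (AffineSpace.homOfVector (𝔸(ULift.{u} a; S) ↘ S)
        (fun j : ULift.{u} (a ⊕ b) => Sum.elim (fun k => AffineSpace.coord S (ULift.up k)) (fun _ => 0) j.down))
      (AffineSpace.homOfVector f v) := by
  set s₀ := AffineSpace.homOfVector (𝔸(ULift.{u} a; S) ↘ S)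
    (fun j : ULift.{u} (a ⊕ b) => Sum.elim (fun k => AffineSpace.coord S (ULift.up k)) (fun _ => 0) j.down) with hs₀
  have c1 : ∀ (T : Scheme.{u}) (p : T ⟶ 𝔸(ULift.{u} a; S)) (g : T ⟶ U), p ≫ s₀ = g ≫ AffineSpace.homOfVector f v →
      ∀ j : ULift.{u} (a ⊕ b), p.appTop (Sum.elim (fun k => AffineSpace.coord S (ULift.up k)) (fun _ => 0) j.down) =
        g.appTop (v j) := fun T p g hpg j => by
    have h := congrArg (fun q : T ⟶ _ => q.appTop (AffineSpace.coord S j)) hpg
    simpa only [Scheme.Hom.comp_appTop, CommRingCat.comp_apply, hs₀, AffineSpace.homOfVector_appTop_coord] using h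
  have c0 : ∀ (s : PullbackCone s₀ (AffineSpace.homOfVector f v)),
      ∃ t : s.pt ⟶ P, t ≫ mk = s.snd := fun s =>
    hlift s.pt s.snd fun l => by
      have h := c1 _ _ _ s.condition (ULift.up (Sum.inr l))
      simpa using h.symm
  choose t ht using c0
  refine IsPullback.of_isLimit' ⟨?_⟩ (PullbackCone.IsLimit.mk _ t (fun s => ?_) ht
    (fun s m _ hm => by rw [← cancel_mono mk, hm, ht]))
  · refine AffineSpace.hom_ext (by simp [hs₀]) fun i => ?_
    simp only [Scheme.Hom.comp_appTop, CommRingCat.comp_apply, hs₀, AffineSpace.homOfVector_appTop_coord]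
    obtain ⟨i | i⟩ := i
    · exact AffineSpace.homOfVector_appTop_coord _ _ _
    · exact (map_zero _).trans (hv i).symm
  · refine AffineSpace.hom_ext ?_ fun k => ?_
    · have h := congrArg (· ≫ 𝔸(ULift.{u} (a ⊕ b); S) ↘ S) s.condition
      simp only [Category.assoc, hs₀, AffineSpace.homOfVector_over] at h ⊢
      rw [h, ← Category.assoc, ht]
    · simp only [Scheme.Hom.comp_appTop, CommRingCat.comp_apply, AffineSpace.homOfVector_appTop_coord]
      rw [← CommRingCat.comp_apply, ← Scheme.Hom.comp_appTop, ht]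
      exact (c1 _ _ _ s.condition ⟨.inl k.down⟩).symm

/-- The vanishing locus of some of the coordinates of a map from an affine scheme to affine space. -/
theorem isPullback_coords {S : Scheme.{u}} {B : CommRingCat.{u}} {a b : Type} (f : Spec B ⟶ S)
    (v : ULift.{u} (a ⊕ b) → B) :
    ∃ ρ, IsPullback ρ (Spec.map (CommRingCat.ofHom (Ideal.Quotient.mk (Ideal.span (Set.range fun j : b => v ⟨.inr j⟩)))))
      (AffineSpace.homOfVector (𝔸(ULift.{u} a; S) ↘ S)
        (fun j : ULift.{u} (a ⊕ b) => Sum.elim (fun k => AffineSpace.coord S (ULift.up k)) (fun _ => 0) j.down))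
      (AffineSpace.homOfVector f (fun i => (Scheme.ΓSpecIso B).inv (v i))) := by
  haveI : Epi (CommRingCat.ofHom (Ideal.Quotient.mk (Ideal.span (Set.range fun j : b => v ⟨.inr j⟩)))) :=
    ConcreteCategory.epi_of_surjective _ Ideal.Quotient.mk_surjective
  refine ⟨_, isPullback_coords_aux _ f _ (fun l => ?_) fun T g hg => exists_lift _ g fun x hx => ?_⟩
  · show (Spec.map _).appTop ((Scheme.ΓSpecIso B).inv (v ⟨.inr l⟩)) = 0
    refine (appTop_specMap _ _).trans ?_
    exact (congrArg _ ((Ideal.Quotient.eq_zero_iff_mem (I := Ideal.span (Set.range fun j : b => v (ULift.up (Sum.inr j))))).2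
      (Ideal.subset_span ⟨l, rfl⟩))).trans (map_zero _)
  · refine Submodule.span_induction (p := fun z _ => g.appTop ((Scheme.ΓSpecIso B).inv z) = 0) ?_ ?_ ?_ ?_ hx
    · rintro _ ⟨l, rfl⟩
      exact hg l
    · rw [map_zero, map_zero]
    · intro _ _ _ _ h1 h2
      rw [map_add, map_add, h1, h2, add_zero]
    · intro c z _ h1
      rw [smul_eq_mul, map_mul, map_mul, h1, mul_zero]

/-- A polynomial-etale map gives an etale map to affine space. -/
theorem etale_homOfVector {S : Scheme.{u}} {R B : CommRingCat.{u}} (j : Spec R ⟶ S) [IsOpenImmersion j]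
    (φ : R ⟶ B) {ι : Type u} (v : ι → B) (h : (MvPolynomial.eval₂Hom φ.hom v).Etale) :
    Etale (AffineSpace.homOfVector (Spec.map φ ≫ j) (fun i => (Scheme.ΓSpecIso B).inv (v i))) := by
  have he : AffineSpace.homOfVector (Spec.map φ ≫ j) (fun i => (Scheme.ΓSpecIso B).inv (v i)) =
      Spec.map (CommRingCat.ofHom (MvPolynomial.eval₂Hom φ.hom v)) ≫ (AffineSpace.SpecIso ι R).inv ≫
        AffineSpace.map ι j := by
    refine AffineSpace.hom_ext ?_ fun i => ?_
    · rw [AffineSpace.homOfVector_over, Category.assoc, Category.assoc, AffineSpace.map_over,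
        AffineSpace.SpecIso_inv_over_assoc, ← Spec.map_comp_assoc]
      congr 2
      ext x
      exact (MvPolynomial.eval₂_C _ _ _).symm
    · rw [AffineSpace.homOfVector_appTop_coord]
      simp only [Scheme.Hom.comp_appTop, CommRingCat.comp_apply]
      rw [AffineSpace.map_appTop_coord, AffineSpace.SpecIso_inv_appTop_coord, ← CommRingCat.comp_apply,
        ← Scheme.ΓSpecIso_inv_naturality, CommRingCat.comp_apply]
      exact congrArg _ (MvPolynomial.eval₂_X _ _ _).symm
  haveI : IsOpenImmersion (AffineSpace.map ι j) :=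
    MorphismProperty.of_isPullback (AffineSpace.isPullback_map (n := ι) j).flip inferInstance
  haveI : Etale (Spec.map (CommRingCat.ofHom (MvPolynomial.eval₂Hom φ.hom v))) :=
    HasRingHomProperty.Spec_iff.2 h
  rw [he]
  infer_instance

/-- Spectrum of a quotient by the extended kernel as a pullback. -/
theorem isPullback_spec_quotient {A B C : CommRingCat.{u}} (ψ : A ⟶ C) (η : A ⟶ B) (hψ : Function.Surjective ψ)
    (J : Ideal B) (hJ : J = (RingHom.ker ψ.hom).map η.hom) :
    ∃ k : Spec (CommRingCat.of (B ⧸ J)) ⟶ Spec C,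
      IsPullback k (Spec.map (CommRingCat.ofHom (Ideal.Quotient.mk J))) (Spec.map ψ) (Spec.map η) := by
  obtain ⟨σ, hσ⟩ := hψ.hasRightInverse
  let κ : C →+* B ⧸ J := RingHom.liftOfRightInverse ψ.hom σ hσ ⟨(Ideal.Quotient.mk J).comp η.hom, fun x hx =>
    RingHom.mem_ker.2 (Ideal.Quotient.eq_zero_iff_mem.2 (hJ ▸ Ideal.mem_map_of_mem _ hx))⟩
  have hκ : ∀ x, κ (ψ x) = Ideal.Quotient.mk J (η x) :=
    RingHom.liftOfRightInverse_comp_apply ψ.hom σ hσ _
  refine ⟨Spec.map (CommRingCat.ofHom κ), (isPullback_SpecMap_of_isPushout ψ η (CommRingCat.ofHom κ)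
    (CommRingCat.ofHom (Ideal.Quotient.mk J)) ?_)⟩
  have hker : ∀ s : PushoutCocone ψ η, J ≤ RingHom.ker s.inr.hom := fun s => by
    rw [hJ, Ideal.map_le_iff_le_comap]
    intro z hz
    have h := congrArg (fun g : A ⟶ _ => g.hom z) s.condition
    simp only [CommRingCat.hom_comp, RingHom.comp_apply] at h
    rw [Ideal.mem_comap, RingHom.mem_ker, ← h, RingHom.mem_ker.1 hz, map_zero]
  refine IsPushout.of_isColimit' ⟨by ext x; exact hκ x⟩ (PushoutCocone.IsColimit.mk _
    (fun s => CommRingCat.ofHom (Ideal.Quotient.lift J s.inr.hom (fun x hx => RingHom.mem_ker.1 (hker s hx)))) ?_ ?_ ?_)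
  · intro s
    ext c
    obtain ⟨x, rfl⟩ := hψ c
    have h := congrArg (fun g : A ⟶ _ => g.hom x) s.condition
    simp only [CommRingCat.hom_comp, RingHom.comp_apply] at h
    refine (congrArg (Ideal.Quotient.lift J s.inr.hom (fun x hx => RingHom.mem_ker.1 (hker s hx))) (hκ x)).trans ?_
    rw [Ideal.Quotient.lift_mk]
    exact h.symm
  · intro s
    ext x
    rfl
  · intro s m _ hm
    ext x
    exact congrArg (fun g : B ⟶ _ => g.hom x) hm

/-- Preimages of affine opens under affine morphisms, as spectra. -/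
theorem isPullback_fromSpec {X Y : Scheme.{u}} (i : Y ⟶ X) [IsAffineHom i] {U : X.Opens} (hU : IsAffineOpen U) :
    IsPullback (hU.preimage i).fromSpec (Spec.map (i.app U)) i hU.fromSpec := by
  refine ((isPullback_morphismRestrict i U).flip).of_iso (hU.preimage i).isoSpec (Iso.refl _) hU.isoSpec (Iso.refl _)
    ?_ ?_ (by simp) ?_
  rotate_left 2
  · simp [IsAffineOpen.isoSpec_hom_fromSpec]
  · simp [IsAffineOpen.isoSpec_hom_fromSpec]
  · rw [← cancel_mono hU.fromSpec, Category.assoc, Category.assoc, IsAffineOpen.isoSpec_hom_fromSpec,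
      morphismRestrict_ι, ← Scheme.Hom.appLE_eq_app, IsAffineOpen.SpecMap_appLE_fromSpec _ hU (hU.preimage i), ← Category.assoc,
      IsAffineOpen.isoSpec_hom_fromSpec]

/-- Étale coordinates adapted to a smooth closed subscheme, in given affine opens. -/
theorem exists_chart_aux {S X Y : Scheme.{u}} (pX : X ⟶ S) [Smooth pX] (i : Y ⟶ X) [IsClosedImmersion i]
    [Smooth (i ≫ pX)] (y : Y) {W : S.Opens} (hW : IsAffineOpen W) {U : X.Opens} (hU : IsAffineOpen U)
    (hyU : i y ∈ U) (hUW : U ≤ pX ⁻¹ᵁ W) :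
    ∃ (B : CommRingCat.{u}) (j : Spec B ⟶ X) (m n : ℕ) (v : ULift.{u} (Fin m ⊕ Fin n) → B),
      IsOpenImmersion j ∧ i y ∈ Set.range j ∧
      Etale (AffineSpace.homOfVector (j ≫ pX) fun i => (Scheme.ΓSpecIso B).inv (v i)) ∧
      ∃ k : Spec (CommRingCat.of (B ⧸ Ideal.span (Set.range fun l : Fin n => v ⟨.inr l⟩))) ⟶ Y,
        IsPullback k (Spec.map (CommRingCat.ofHom (Ideal.Quotient.mk _))) i j := by
  let φ : Γ(S, W) ⟶ Γ(X, U) := pX.appLE W U hUW
  let ψ : Γ(X, U) ⟶ Γ(Y, i ⁻¹ᵁ U) := i.app U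
  have hψ : Function.Surjective ψ := i.app_surjective U hU
  have hφs : φ.hom.Smooth := pX.smooth_appLE hW hU hUW
  have hφψs : (φ ≫ ψ).hom.Smooth := by
    have := (i ≫ pX).smooth_appLE hW (hU.preimage i) (fun z hz => hUW hz)
    rwa [show (φ ≫ ψ) = (i ≫ pX).appLE W (i ⁻¹ᵁ U) (fun z hz => hUW hz) from by
      simp only [φ, ψ]
      rw [← Scheme.Hom.appLE_eq_app, Scheme.Hom.appLE_comp_appLE]]
  let q := hU.primeIdealOf ⟨i y, hyU⟩
  have hmem : ∀ f, i y ∈ X.basicOpen f ↔ f ∉ q.asIdeal := fun f => by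
    have h0 : hU.fromSpec q ∈ X.basicOpen f ↔ f ∉ q.asIdeal :=
      Iff.of_eq (congrArg (fun V : (Spec Γ(X, U)).Opens => q ∈ V) (hU.fromSpec_preimage_basicOpen f))
    exact (show hU.fromSpec q = i y from hU.fromSpec_primeIdealOf ⟨i y, hyU⟩) ▸ h0
  have hker : RingHom.ker ψ.hom ≤ q.asIdeal := fun x hx => by
    by_contra hxq
    have h : y ∈ i ⁻¹ᵁ X.basicOpen x := (hmem x).2 hxq
    rw [Scheme.preimage_basicOpen, show i.app U x = 0 from hx, Scheme.basicOpen_zero] at h
    exact h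
  letI := φ.hom.toAlgebra
  letI := ψ.hom.toAlgebra
  letI := (φ ≫ ψ).hom.toAlgebra
  haveI : IsScalarTower Γ(S, W) Γ(X, U) Γ(Y, i ⁻¹ᵁ U) := IsScalarTower.of_algebraMap_eq' rfl
  haveI : Algebra.Smooth Γ(S, W) Γ(X, U) := hφs
  haveI : Algebra.Smooth Γ(S, W) Γ(Y, i ⁻¹ᵁ U) := hφψs
  obtain ⟨m, n, wv, h, hh, hwker, hwspan, het⟩ :=
    exists_coordinates (R := Γ(S, W)) (C := Γ(Y, i ⁻¹ᵁ U)) q.asIdeal hψ hker
  let B : CommRingCat.{u} := CommRingCat.of (Localization.Away h)
  let η : Γ(X, U) ⟶ B := CommRingCat.ofHom (algebraMap Γ(X, U) (Localization.Away h))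
  let v : ULift.{u} (Fin m ⊕ Fin n) → B := fun l => η (wv l)
  haveI : IsOpenImmersion (Spec.map η) := Scheme.isOpenImmersion_SpecMap_localizationAway h
  have hJ : Ideal.span (Set.range fun l : Fin n => v ⟨.inr l⟩) = (RingHom.ker ψ.hom).map η.hom := by
    refine le_antisymm (Ideal.span_le.2 ?_) (Ideal.map_le_iff_le_comap.2 fun x hx => ?_)
    · rintro _ ⟨l, rfl⟩
      exact Ideal.mem_map_of_mem _ (hwker l)
    · have h1 := Ideal.mem_map_of_mem η.hom (hwspan x hx)
      rw [map_mul, Ideal.map_span, ← Set.range_comp] at h1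
      exact (Ideal.unit_mul_mem_iff_mem (Ideal.span (Set.range fun l : Fin n => v ⟨.inr l⟩))
        (IsLocalization.Away.algebraMap_isUnit (S := Localization.Away h) h)).1 h1
  obtain ⟨k, hk⟩ := isPullback_spec_quotient ψ η hψ _ hJ
  refine ⟨B, Spec.map η ≫ hU.fromSpec, m, n, v, inferInstance, ?_, ?_, k ≫ (hU.preimage i).fromSpec,
    hk.paste_horiz (isPullback_fromSpec i hU)⟩
  · obtain ⟨p, hp⟩ : q ∈ Set.range (PrimeSpectrum.comap η.hom) := by
      rw [show Set.range (PrimeSpectrum.comap η.hom) = _ from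
        PrimeSpectrum.localization_away_comap_range (Localization.Away h) h]
      exact hh
    exact ⟨p, (congrArg hU.fromSpec hp).trans (hU.fromSpec_primeIdealOf _)⟩
  · rw [Category.assoc, ← IsAffineOpen.SpecMap_appLE_fromSpec pX hW hU hUW, ← Category.assoc, ← Spec.map_comp]
    refine etale_homOfVector hW.fromSpec (φ ≫ η) v ?_
    letI := (MvPolynomial.aeval wv : MvPolynomial _ Γ(S, W) →ₐ[Γ(S, W)] Γ(X, U)).toRingHom.toAlgebra
    have : MvPolynomial.eval₂Hom (φ ≫ η).hom v =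
        algebraMap (MvPolynomial (ULift.{u} (Fin m ⊕ Fin n)) Γ(S, W)) (Localization.Away h) := by
      refine MvPolynomial.ringHom_ext (fun r => ?_) fun l => ?_
      · rw [MvPolynomial.eval₂Hom_C]
        show η (φ r) = η (MvPolynomial.aeval wv (MvPolynomial.C r))
        rw [MvPolynomial.aeval_C]; rfl
      · rw [MvPolynomial.eval₂Hom_X']
        show η (wv l) = η (MvPolynomial.aeval wv (MvPolynomial.X l))
        rw [MvPolynomial.aeval_X]
    rw [this]
    exact RingHom.etale_algebraMap.2 het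

/-- Étale coordinates adapted to a smooth closed subscheme. -/
theorem exists_chart {S X Y : Scheme.{u}} (pX : X ⟶ S) (pY : Y ⟶ S) [Smooth pX] [Smooth pY]
    (i : Y ⟶ X) [IsClosedImmersion i] (w : i ≫ pX = pY) (y : Y) :
    ∃ (B : CommRingCat.{u}) (j : Spec B ⟶ X) (m n : ℕ) (v : ULift.{u} (Fin m ⊕ Fin n) → B),
      IsOpenImmersion j ∧ i y ∈ Set.range j ∧
      Etale (AffineSpace.homOfVector (j ≫ pX) fun i => (Scheme.ΓSpecIso B).inv (v i)) ∧
      ∃ k : Spec (CommRingCat.of (B ⧸ Ideal.span (Set.range fun l : Fin n => v ⟨.inr l⟩))) ⟶ Y,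
        IsPullback k (Spec.map (CommRingCat.ofHom (Ideal.Quotient.mk _))) i j := by
  subst w
  obtain ⟨_, ⟨W, hW, rfl⟩, hyW, -⟩ :=
    S.isBasis_affineOpens.exists_subset_of_mem_open (Set.mem_univ (pX (i y))) isOpen_univ
  obtain ⟨_, ⟨U, hU, rfl⟩, hyU, hUW⟩ :=
    X.isBasis_affineOpens.exists_subset_of_mem_open (show i y ∈ (pX ⁻¹ᵁ W : Set X) from hyW) (pX ⁻¹ᵁ W).2
  exact exists_chart_aux pX i y hW hU hyU hUW

end Groth.Agent.FlatMorSmoothPair

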